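/-
Lifting idempotents to the integral closure for finite factors modulo an ideal.
-/
import Mathlib

universe u

noncomputable section

namespace Groth.Agent.IdemLift

variable {A B : Type u} [CommRing A] [CommRing B] [Algebra A B]

variable (A B) in
/-- The elements of the integral closure at which the integral closure is everything. -/
def goodIdeal : Ideal (integralClosure A B) where
  carrier := {c | ∀ b : B, ∃ n : ℕ, (c : B) ^ n * b ∈ integralClosure A B}
  zero_mem' b := ⟨1, by simp [zero_mem]⟩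
  add_mem' := by
    intro c d hc hd b
    obtain ⟨n, hn⟩ := hc b
    obtain ⟨m, hm⟩ := hd b
    refine ⟨n + m, ?_⟩
    rw [AddMemClass.coe_add, add_pow, Finset.sum_mul]
    refine sum_mem fun i hi => ?_
    rcases le_or_gt n i with h | h
    · rw [show (c : B) ^ i * (d : B) ^ (n + m - i) * ((n + m).choose i : B) * b =
          ((c : B) ^ n * b) * ((c : B) ^ (i - n) * (d : B) ^ (n + m - i) * ((n + m).choose i : B)) by
        rw [show (c : B) ^ i = (c : B) ^ n * (c : B) ^ (i - n) by rw [← pow_add, Nat.add_sub_cancel' h]]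
        ring]
      exact mul_mem hn (mul_mem (mul_mem (pow_mem c.2 _) (pow_mem d.2 _)) (natCast_mem _ _))
    · rw [show (c : B) ^ i * (d : B) ^ (n + m - i) * ((n + m).choose i : B) * b =
          ((d : B) ^ m * b) * ((c : B) ^ i * (d : B) ^ (n + m - i - m) * ((n + m).choose i : B)) by
        rw [show (d : B) ^ (n + m - i) = (d : B) ^ m * (d : B) ^ (n + m - i - m) by
          rw [← pow_add, Nat.add_sub_cancel' (by omega)]]
        ring]
      exact mul_mem hm (mul_mem (mul_mem (pow_mem c.2 _) (pow_mem d.2 _)) (natCast_mem _ _))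
  smul_mem' := by
    intro r c hc b
    obtain ⟨n, hn⟩ := hc b
    refine ⟨n, ?_⟩
    rw [smul_eq_mul, Subalgebra.coe_mul, mul_pow, mul_assoc]
    exact mul_mem (pow_mem r.2 _) hn

theorem exists_good_notMem [Algebra.FiniteType A B] (q : Ideal B) [q.IsPrime] [Algebra.QuasiFiniteAt A q] :
    ∃ c ∈ goodIdeal A B, (c : B) ∉ q := by
  obtain ⟨S', hfg, r, hr, -, hsurj⟩ := Algebra.QuasiFiniteAt.exists_fg_and_exists_notMem_and_awayMap_bijective
    (R := A) q
  have hle : S' ≤ integralClosure A B := fun x hx => IsIntegral.of_mem_of_fg S' hfg x hx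
  refine ⟨⟨r.1, hle r.2⟩, fun b => ?_, hr⟩
  obtain ⟨x, hx⟩ := hsurj (algebraMap B (Localization.Away r.1) b)
  obtain ⟨⟨a, ⟨_, m, rfl⟩⟩, ha⟩ := IsLocalization.surj (Submonoid.powers r) x
  have hf : ∀ y : S', Localization.awayMap S'.val.toRingHom r (algebraMap S' (Localization.Away r) y) =
      algebraMap B (Localization.Away r.1) y.1 := fun y => IsLocalization.map_eq _ y
  have h2 := congrArg (Localization.awayMap S'.val.toRingHom r) ha
  rw [map_mul, hf, hf, hx] at h2
  replace h2 : algebraMap B (Localization.Away r.1) (b * r.1 ^ m) = algebraMap B _ a.1 := (map_mul _ _ _).trans h2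
  obtain ⟨⟨_, N, rfl⟩, hN⟩ := IsLocalization.exists_of_eq (M := Submonoid.powers r.1) h2
  refine ⟨N + m, ?_⟩
  have : (r.1 : B) ^ (N + m) * b = r.1 ^ N * a.1 := by
    rw [pow_add, mul_assoc]
    refine Eq.trans ?_ hN
    simp [mul_comm]
  rw [this]
  exact hle (mul_mem (pow_mem r.2 _) a.2)

variable (I : Ideal A)

theorem quasiFiniteAt [Algebra.FiniteType A B] (et : B) (het : et * (1 - et) ∈ I.map (algebraMap A B))
    (hfin : Module.Finite A (B ⧸ (I.map (algebraMap A B) ⊔ Ideal.span {1 - et})))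
    (q : Ideal B) [hq : q.IsPrime] (hIq : I.map (algebraMap A B) ⊔ Ideal.span {1 - et} ≤ q) :
    Algebra.QuasiFiniteAt A q := by
  set K := I.map (algebraMap A B) ⊔ Ideal.span {1 - et} with hK
  refine Algebra.QuasiFiniteAt.of_isOpen_singleton_fiber ⟨q, hq⟩ ?_
  set p := PrimeSpectrum.comap (algebraMap A B) ⟨q, hq⟩
  haveI : (q.map (Ideal.Quotient.mk K)).IsPrime :=
    Ideal.map_isPrime_of_surjective Ideal.Quotient.mk_surjective (by rwa [Ideal.mk_ker])
  let qb : PrimeSpectrum (B ⧸ K) := ⟨q.map (Ideal.Quotient.mk K), inferInstance⟩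
  let π := PrimeSpectrum.comap (Ideal.Quotient.mk K)
  have hπq : π qb = ⟨q, hq⟩ := PrimeSpectrum.ext (by
    show (q.map (Ideal.Quotient.mk K)).comap (Ideal.Quotient.mk K) = q
    rw [Ideal.comap_map_of_surjective _ Ideal.Quotient.mk_surjective, ← RingHom.ker_eq_comap_bot, Ideal.mk_ker,
      sup_eq_left.2 hIq])
  have hemb := PrimeSpectrum.isClosedEmbedding_comap_of_surjective (B ⧸ K) (Ideal.Quotient.mk K) Ideal.Quotient.mk_surjective
  have hd := (Algebra.QuasiFinite.isDiscrete_comap_preimage_singleton (S := B ⧸ K) p).to_subtype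
  have hqb : qb ∈ PrimeSpectrum.comap (algebraMap A (B ⧸ K)) ⁻¹' {p} := by
    rw [Set.mem_preimage, Set.mem_singleton_iff, IsScalarTower.algebraMap_eq A B (B ⧸ K), PrimeSpectrum.comap_comp]
    exact congrArg (PrimeSpectrum.comap (algebraMap A B)) hπq
  obtain ⟨W, hW, hWq⟩ := isOpen_induced_iff.1 (isOpen_discrete ({⟨qb, hqb⟩} : Set (PrimeSpectrum.comap (algebraMap A (B ⧸ K)) ⁻¹' {p})))
  obtain ⟨W', hW', hWW'⟩ := hemb.isInducing.isOpen_iff.1 hW
  refine isOpen_induced_iff.2 ⟨W' ∩ PrimeSpectrum.basicOpen et, hW'.inter (PrimeSpectrum.basicOpen et).isOpen, ?_⟩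
  have hetq : et ∉ q := fun h => hq.ne_top ((Ideal.eq_top_iff_one _).2 (by
    have := add_mem h (hIq (Ideal.mem_sup_right (Ideal.mem_span_singleton_self (1 - et))))
    simpa using this))
  ext ⟨q', hq'⟩
  refine ⟨fun ⟨h1, h2⟩ => ?_, fun h => ?_⟩
  · have hp : q'.asIdeal.comap (algebraMap A B) = q.comap (algebraMap A B) := congrArg PrimeSpectrum.asIdeal hq'
    have hI : I.map (algebraMap A B) ≤ q'.asIdeal := Ideal.map_le_iff_le_comap.2 fun x hx => by
      rw [hp]
      exact Ideal.map_le_iff_le_comap.1 (le_sup_left.trans hIq) hx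
    have hKq : K ≤ q'.asIdeal := sup_le hI ((Ideal.span_singleton_le_iff_mem _).2
      ((q'.2.mem_or_mem (hI het)).resolve_left h2))
    obtain ⟨qb', hqb'⟩ : q' ∈ Set.range π := by
      haveI : (q'.asIdeal.map (Ideal.Quotient.mk K)).IsPrime :=
        Ideal.map_isPrime_of_surjective Ideal.Quotient.mk_surjective (by rwa [Ideal.mk_ker])
      refine ⟨⟨q'.asIdeal.map (Ideal.Quotient.mk K), inferInstance⟩, PrimeSpectrum.ext ?_⟩
      show (q'.asIdeal.map (Ideal.Quotient.mk K)).comap (Ideal.Quotient.mk K) = q'.asIdeal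
      rw [Ideal.comap_map_of_surjective _ Ideal.Quotient.mk_surjective, ← RingHom.ker_eq_comap_bot, Ideal.mk_ker,
        sup_eq_left.2 hKq]
    have hmem : qb' ∈ PrimeSpectrum.comap (algebraMap A (B ⧸ K)) ⁻¹' {p} := by
      rw [Set.mem_preimage, Set.mem_singleton_iff, IsScalarTower.algebraMap_eq A B (B ⧸ K), PrimeSpectrum.comap_comp]
      exact (congrArg (PrimeSpectrum.comap (algebraMap A B)) hqb').trans hq'
    have : (⟨qb', hmem⟩ : ↥(PrimeSpectrum.comap (algebraMap A (B ⧸ K)) ⁻¹' {p})) ∈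
        ({⟨qb, hqb⟩} : Set ↥(PrimeSpectrum.comap (algebraMap A (B ⧸ K)) ⁻¹' {p})) := by
      rw [← hWq]
      show qb' ∈ W
      rw [← hWW']
      show π qb' ∈ W'
      rw [hqb']; exact h1
    rw [Set.mem_singleton_iff, Subtype.ext_iff] at this
    refine Subtype.ext ?_
    show q' = ⟨q, hq⟩
    rw [← hqb', ← hπq]
    exact congrArg π this
  · obtain rfl : q' = ⟨q, hq⟩ := congrArg Subtype.val h
    refine ⟨?_, hetq⟩
    have h3 : qb ∈ W := by
      have : (⟨qb, hqb⟩ : ↥(PrimeSpectrum.comap (algebraMap A (B ⧸ K)) ⁻¹' {p})) ∈ Subtype.val ⁻¹' W := by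
        rw [hWq]; rfl
      exact this
    rw [← hWW'] at h3
    have h4 : π qb ∈ W' := h3
    rwa [hπq] at h4

theorem exists_idempotent_lift [Algebra.FiniteType A B] (et : B) (het : et * (1 - et) ∈ I.map (algebraMap A B))
    (hfin : Module.Finite A (B ⧸ (I.map (algebraMap A B) ⊔ Ideal.span {1 - et}))) :
    ∃ g : integralClosure A B,
      IsIdempotentElem (Ideal.Quotient.mk (I.map (algebraMap A (integralClosure A B))) g) ∧
      Ideal.Quotient.mk (I.map (algebraMap A B)) (g : B) = Ideal.Quotient.mk _ et ∧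
      Function.Bijective (algebraMap (Localization.Away g)
        (Localization (Algebra.algebraMapSubmonoid B (Submonoid.powers g)))) := by
  set K := I.map (algebraMap A B) ⊔ Ideal.span {1 - et} with hK
  let IB := I.map (algebraMap A B)
  let C := integralClosure A B
  let qB := Ideal.Quotient.mk IB
  let J := goodIdeal A B
  have hidem : qB et * qB et = qB et := by
    have := Ideal.Quotient.eq_zero_iff_mem.2 het
    rw [map_mul, map_sub, map_one, mul_sub, mul_one, sub_eq_zero] at this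
    exact this.symm
  let toR1 : C →+* B ⧸ K := algebraMap C (B ⧸ K)
  haveI : Algebra.IsIntegral A (B ⧸ K) := Algebra.IsIntegral.of_finite _ _
  haveI : Algebra.IsIntegral C (B ⧸ K) := Algebra.IsIntegral.tower_top (R := A)
  have hkey : ∀ P : Ideal C, P.IsPrime → RingHom.ker toR1 ≤ P → ¬ J ≤ P := by
    intro P _ hP hJ
    obtain ⟨Q, -, hQ, hQP⟩ := Ideal.exists_ideal_over_prime_of_isIntegral P (⊥ : Ideal (B ⧸ K)) hP
    let q := Q.comap (Ideal.Quotient.mk K)
    haveI : q.IsPrime := Ideal.comap_isPrime _ _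
    haveI := quasiFiniteAt I et het hfin q (fun x hx => by
      show Ideal.Quotient.mk K x ∈ Q
      rw [Ideal.Quotient.eq_zero_iff_mem.2 hx]; exact Q.zero_mem)
    obtain ⟨c, hc, hcq⟩ := exists_good_notMem (A := A) q
    refine hcq ?_
    have := hJ hc
    rw [← hQP] at this
    exact this
  have hker : ∀ x : C, x ∈ RingHom.ker toR1 → qB (x : B) * qB et = 0 := fun x hx => by
    have hx' : (x : B) ∈ K := Ideal.Quotient.eq_zero_iff_mem.1 hx
    obtain ⟨y, hy, z, hz, hyz⟩ := Submodule.mem_sup.1 hx'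
    obtain ⟨w, rfl⟩ := Ideal.mem_span_singleton'.1 hz
    rw [← hyz, map_add, Ideal.Quotient.eq_zero_iff_mem.2 hy, zero_add, map_mul, map_sub, map_one, mul_assoc,
      sub_mul, one_mul, hidem, sub_self, mul_zero]
  -- `e` comes from the integral closure
  let M : Ideal C :=
    { carrier := {c | ∃ c' : C, qB (c : B) * qB et = qB (c' : B)}
      zero_mem' := ⟨0, by simp⟩
      add_mem' := fun {a b} ⟨a', ha⟩ ⟨b', hb⟩ => ⟨a' + b', by simp [add_mul, ha, hb]⟩
      smul_mem' := fun r c ⟨c', hc⟩ => ⟨r * c', by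
        rw [smul_eq_mul, Subalgebra.coe_mul, map_mul, mul_assoc, hc, ← map_mul, ← Subalgebra.coe_mul]⟩ }
  obtain ⟨c₀, hc₀⟩ : ∃ c₀ : C, qB et = qB (c₀ : B) := by
    by_cases hM : M = ⊤
    · obtain ⟨c', hc'⟩ : (1 : C) ∈ M := hM ▸ Submodule.mem_top
      exact ⟨c', by rw [← hc', OneMemClass.coe_one, map_one, one_mul]⟩
    · obtain ⟨P, hP, hMP⟩ := Ideal.exists_le_maximal M hM
      refine absurd (fun j hj => ?_) (hkey P hP.isPrime fun x hx => hMP ⟨0, by
        rw [hker x hx, ZeroMemClass.coe_zero, map_zero]⟩)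
      obtain ⟨n, hn⟩ := hj et
      refine hP.isPrime.mem_of_pow_mem n (hMP ⟨⟨_, hn⟩, ?_⟩)
      rw [← map_mul, SubmonoidClass.coe_pow]
  have htop : J ⊔ RingHom.ker toR1 = ⊤ := by
    by_contra h
    obtain ⟨P, hP, hle⟩ := Ideal.exists_le_maximal _ h
    exact hkey P hP.isPrime (le_sup_right.trans hle) (le_sup_left.trans hle)
  obtain ⟨j, hj, z, hz, hjz⟩ := Submodule.mem_sup.1 (show (1 : C) ∈ J ⊔ RingHom.ker toR1 by rw [htop]; trivial)
  let c : C := c₀ * j
  have hcJ : c ∈ J := J.mul_mem_left _ hj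
  have hce : qB (c : B) = qB et := by
    rw [Subalgebra.coe_mul, map_mul, ← hc₀]
    have h1 : qB ((j + z : C) : B) * qB et = qB et := by rw [hjz, OneMemClass.coe_one, map_one, one_mul]
    rw [AddMemClass.coe_add, map_add, add_mul, hker z hz, add_zero, mul_comm] at h1
    exact h1
  -- good elements clear denominators of `IB`
  have hclear : ∀ x : B, x ∈ IB → ∃ (N : ℕ) (w : C), w ∈ I.map (algebraMap A C) ∧ (w : B) = (c : B) ^ N * x := by
    intro x hx
    induction hx using Submodule.span_induction with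
    | mem y hy =>
      obtain ⟨i, hi, rfl⟩ := hy
      exact ⟨0, algebraMap A C i, Ideal.mem_map_of_mem _ hi, by simp⟩
    | zero => exact ⟨0, 0, zero_mem _, by simp⟩
    | add x y _ _ hx hy =>
      obtain ⟨N, w, hw, hw'⟩ := hx
      obtain ⟨N', w', hwI', hw''⟩ := hy
      refine ⟨N + N', c ^ N' * w + c ^ N * w', add_mem (Ideal.mul_mem_left _ _ hw) (Ideal.mul_mem_left _ _ hwI'), ?_⟩
      simp only [AddMemClass.coe_add, Subalgebra.coe_mul, SubmonoidClass.coe_pow, hw', hw'']
      ring
    | smul a y _ hy =>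
      obtain ⟨N, w, hw, hw'⟩ := hy
      obtain ⟨n, hn⟩ := hcJ a
      refine ⟨n + N, ⟨_, hn⟩ * w, Ideal.mul_mem_left _ _ hw, ?_⟩
      simp only [Subalgebra.coe_mul, hw', smul_eq_mul]
      ring
  have hc2 : (c : B) * c - c ∈ IB := by
    rw [← Ideal.Quotient.eq_zero_iff_mem, map_sub, map_mul, sub_eq_zero]
    show qB (c : B) * qB (c : B) = qB (c : B)
    rw [hce, hidem]
  obtain ⟨N, w, hw, hwc⟩ := hclear _ hc2
  have hw' : w = c ^ N * (c * c - c) := Subtype.ext (by simp [hwc])
  let qC := Ideal.Quotient.mk (I.map (algebraMap A C))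
  have hstep : qC c ^ (N + 1 + 1) = qC c ^ (N + 1) := by
    have := Ideal.Quotient.eq_zero_iff_mem.2 hw
    rw [hw', map_mul, map_sub, map_mul, map_pow, mul_sub, sub_eq_zero] at this
    rw [pow_succ, pow_succ, mul_assoc]
    exact this
  have hstab : ∀ i, qC c ^ (N + 1 + i) = qC c ^ (N + 1) := fun i => by
    induction i with
    | zero => rfl
    | succ i ih => rw [← add_assoc, pow_succ, ih, ← pow_succ, hstep]
  refine ⟨c ^ (N + 1), ?_, ?_, ?_⟩
  · show qC (c ^ (N + 1)) * qC (c ^ (N + 1)) = qC (c ^ (N + 1))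
    rw [map_pow, ← pow_add, hstab]
  · show qB ((c ^ (N + 1) : C) : B) = qB et
    rw [SubmonoidClass.coe_pow, map_pow, hce]
    exact IsIdempotentElem.pow_succ_eq N hidem
  · have hgJ : c ^ (N + 1) ∈ J := Ideal.pow_mem_of_mem _ hcJ _ (Nat.succ_pos _)
    generalize c ^ (N + 1) = g at hgJ ⊢
    refine ⟨?_, fun y => ?_⟩
    · haveI : IsLocalization ((Submonoid.powers g).map (algebraMap (integralClosure A B) B))
          (Localization (Algebra.algebraMapSubmonoid B (Submonoid.powers g))) :=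
        inferInstanceAs (IsLocalization (Algebra.algebraMapSubmonoid B (Submonoid.powers g))
          (Localization (Algebra.algebraMapSubmonoid B (Submonoid.powers g))))
      exact IsLocalization.map_injective_of_injective _ _ _ Subtype.val_injective
    · obtain ⟨b, ⟨_, hs⟩, rfl⟩ := IsLocalization.exists_mk'_eq (Algebra.algebraMapSubmonoid B (Submonoid.powers g)) y
      obtain ⟨_, ⟨m, rfl⟩, rfl⟩ := hs
      obtain ⟨n, hn⟩ := hgJ b
      refine ⟨IsLocalization.mk' _ (⟨_, hn⟩ : C) (⟨g ^ (n + m), n + m, rfl⟩ : Submonoid.powers g), ?_⟩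
      set S' := Localization (Algebra.algebraMapSubmonoid B (Submonoid.powers g))
      have hu : IsUnit (algebraMap B S' ((g : B) ^ n)) := IsLocalization.map_units (M := Algebra.algebraMapSubmonoid B (Submonoid.powers g)) S'
        ⟨(g : B) ^ n, ⟨g ^ n, ⟨n, rfl⟩, map_pow (algebraMap C B) g n⟩⟩
      rw [IsLocalization.eq_mk'_iff_mul_eq]
      refine hu.mul_right_cancel ?_
      have h1 := congrArg (algebraMap (Localization.Away g) S') (IsLocalization.mk'_spec (Localization.Away g)
        (⟨_, hn⟩ : C) (⟨g ^ (n + m), n + m, rfl⟩ : Submonoid.powers g))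
      have hmap : ∀ z : integralClosure A B,
          algebraMap (Localization.Away g) S' (algebraMap _ (Localization.Away g) z) = algebraMap B S' (z : B) :=
        fun z => IsLocalization.map_eq _ z
      rw [map_mul, hmap, hmap] at h1
      have e1 : ((g ^ (n + m) : integralClosure A B) : B) = (g : B) ^ n * (g : B) ^ m := by
        rw [SubmonoidClass.coe_pow, pow_add]
      show _ * algebraMap B S' ((g ^ m : integralClosure A B) : B) * _ = _
      rw [SubmonoidClass.coe_pow]
      refine Eq.trans ?_ (Eq.trans h1 (Eq.trans ?_ (mul_comm _ _)))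
      · rw [e1, map_mul]; ring
      · exact map_mul _ _ _

end Groth.Agent.IdemLift
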